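import Mathlib

/-!
# S2720 / S2721 team project: isometries of odd prime order of a quadratic space over a finite
field of odd characteristic

Interface file: definitions and the `Prop`-valued statements of the packages.

Setting: `F` a finite field, `2 ≠ 0`, `V` a finite-dimensional `F`-space, `B` a nondegenerate
symmetric bilinear form, `h` an isometry with `h ^ r = 1`, `r` an odd prime, `r ≠ 0` in `F`.
-/

set_option autoImplicit false

namespace Cfsg.Agent.Lib.Helper14.Semi

universe u

section defs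

variable {F : Type u} [Field F] {V : Type u} [AddCommGroup V] [Module F V]

/-- The standing hypotheses on `(B, h, r)`. -/
structure Setting (B : LinearMap.BilinForm F V) (h : V →ₗ[F] V) (r : ℕ) : Prop where
  two : (2 : F) ≠ 0
  symm : ∀ x y, B x y = B y x
  nondeg : ∀ x, (∀ y, B x y = 0) → x = 0
  isom : ∀ x y, B (h x) (h y) = B x y
  pow : h ^ r = 1
  prime : r.Prime
  odd : Odd r
  ne : (r : F) ≠ 0

/-- `U` is `h`-invariant. -/
def Inv (h : V →ₗ[F] V) (U : Submodule F V) : Prop := ∀ x ∈ U, h x ∈ U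

/-- `B` is nondegenerate on `U`. -/
def NondegOn (B : LinearMap.BilinForm F V) (U : Submodule F V) : Prop :=
  ∀ x ∈ U, (∀ y ∈ U, B x y = 0) → x = 0

/-- `h` has no nonzero fixed vector. -/
def Fpf (h : V →ₗ[F] V) : Prop := ∀ x, h x = x → x = 0

/-- `L` is a minimal nonzero `h`-invariant subspace. -/
def Irred (h : V →ₗ[F] V) (L : Submodule F V) : Prop :=
  L ≠ ⊥ ∧ ∀ W : Submodule F V, W ≤ L → Inv h W → W = ⊥ ∨ W = L

/-- Type A: `V` is irreducible under `h`. -/
def TypeA (h : V →ₗ[F] V) : Prop := Irred h ⊤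

/-- Type B: `V = L ⊕ L'` with `L`, `L'` invariant, irreducible and totally isotropic. -/
structure TypeB (B : LinearMap.BilinForm F V) (h : V →ₗ[F] V) (L L' : Submodule F V) : Prop where
  compl : IsCompl L L'
  invL : Inv h L
  invL' : Inv h L'
  isoL : ∀ x ∈ L, ∀ y ∈ L, B x y = 0
  isoL' : ∀ x ∈ L', ∀ y ∈ L', B x y = 0
  irrL : Irred h L
  irrL' : Irred h L'

/-- Type C: there is a proper nonzero invariant subspace on which `B` is nondegenerate. -/
def TypeC (B : LinearMap.BilinForm F V) (h : V →ₗ[F] V) : Prop :=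
  ∃ U : Submodule F V, U ≠ ⊥ ∧ U ≠ ⊤ ∧ Inv h U ∧ NondegOn B U

/-- The reflection along `u`: `x ↦ x - (2 B(x,u) / B(u,u)) u`. -/
noncomputable def refl (B : LinearMap.BilinForm F V) (u : V) : V →ₗ[F] V :=
  LinearMap.id - ((2 / B u u) • B.flip u).smulRight u

theorem refl_apply (B : LinearMap.BilinForm F V) (u x : V) :
    refl B u x = x - ((2 / B u u) * B x u) • u := by
  simp [refl]

end defs

/-! ## Structural packages -/

/-- Fixed space and its complement. -/
def PkgSplit : Prop :=
  ∀ {F : Type u} [Field F] [Fintype F] {V : Type u} [AddCommGroup V] [Module F V]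
    [FiniteDimensional F V] (B : LinearMap.BilinForm F V) (h : V →ₗ[F] V) (r : ℕ),
    Setting B h r →
    ∃ V₀ V₁ : Submodule F V, IsCompl V₀ V₁ ∧ (∀ x ∈ V₀, h x = x) ∧ Inv h V₁ ∧
      (∀ x ∈ V₁, h x = x → x = 0) ∧ (∀ x ∈ V₀, ∀ y ∈ V₁, B x y = 0) ∧
      NondegOn B V₀ ∧ NondegOn B V₁

/-- Without fixed vectors the dimension is even (`B((h - h⁻¹)x, y)` is alternating and
nondegenerate). -/
def PkgEven : Prop :=
  ∀ {F : Type u} [Field F] [Fintype F] {V : Type u} [AddCommGroup V] [Module F V]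
    [FiniteDimensional F V] (B : LinearMap.BilinForm F V) (h : V →ₗ[F] V) (r : ℕ),
    Setting B h r → Fpf h → Even (Module.finrank F V)

/-- Maschke for the cyclic group generated by `h`. -/
def PkgMaschke : Prop :=
  ∀ {F : Type u} [Field F] {V : Type u} [AddCommGroup V] [Module F V]
    [FiniteDimensional F V] (h : V →ₗ[F] V) (r : ℕ), h ^ r = 1 → (r : F) ≠ 0 →
    ∀ W : Submodule F V, Inv h W → ∃ W' : Submodule F V, IsCompl W W' ∧ Inv h W'

/-- The orthogonal complement of an invariant nondegenerate subspace. -/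
def PkgCompl : Prop :=
  ∀ {F : Type u} [Field F] [Fintype F] {V : Type u} [AddCommGroup V] [Module F V]
    [FiniteDimensional F V] (B : LinearMap.BilinForm F V) (h : V →ₗ[F] V) (r : ℕ),
    Setting B h r → ∀ U : Submodule F V, Inv h U → NondegOn B U →
    ∃ U' : Submodule F V, IsCompl U U' ∧ Inv h U' ∧ NondegOn B U' ∧
      (∀ x ∈ U, ∀ y ∈ U', B x y = 0)

/-- The setting restricts to an invariant nondegenerate subspace. -/
def PkgRestrict : Prop :=
  ∀ {F : Type u} [Field F] [Fintype F] {V : Type u} [AddCommGroup V] [Module F V]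
    [FiniteDimensional F V] (B : LinearMap.BilinForm F V) (h : V →ₗ[F] V) (r : ℕ),
    Setting B h r → ∀ (U : Submodule F V) (hU : Inv h U), NondegOn B U →
    Setting (B.restrict U) (h.restrict hU) r

/-- Gluing two endomorphisms along a direct sum decomposition. -/
def PkgGlue : Prop :=
  ∀ {F : Type u} [Field F] {V : Type u} [AddCommGroup V] [Module F V]
    [FiniteDimensional F V] (U U' : Submodule F V), IsCompl U U' →
    ∀ (d₁ : U →ₗ[F] U) (d₂ : U' →ₗ[F] U'),
    ∃ d : V →ₗ[F] V, (∀ x : U, d x = d₁ x) ∧ (∀ x : U', d x = d₂ x) ∧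
      LinearMap.det d = LinearMap.det d₁ * LinearMap.det d₂

/-- Gluing similarities along an orthogonal invariant decomposition. -/
def GlueII : Prop :=
  ∀ {F : Type u} [Field F] {V : Type u} [AddCommGroup V] [Module F V]
    [FiniteDimensional F V] (B : LinearMap.BilinForm F V) (h : V →ₗ[F] V)
    (U U' : Submodule F V) (hU : Inv h U) (hU' : Inv h U'), IsCompl U U' →
    (∀ x y, B x y = B y x) → (∀ x ∈ U, ∀ y ∈ U', B x y = 0) →
    ∀ (μ : F) (d₁ : U →ₗ[F] U) (d₂ : U' →ₗ[F] U'),
      (∀ x, d₁ (h.restrict hU x) = h.restrict hU (d₁ x)) →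
      (∀ x y : U, B (d₁ x) (d₁ y) = μ * B x y) →
      (∀ x, d₂ (h.restrict hU' x) = h.restrict hU' (d₂ x)) →
      (∀ x y : U', B (d₂ x) (d₂ y) = μ * B x y) →
      ∃ d : V →ₗ[F] V, (∀ x, d (h x) = h (d x)) ∧ (∀ x y, B (d x) (d y) = μ * B x y) ∧
        LinearMap.det d = LinearMap.det d₁ * LinearMap.det d₂ ∧
        (∀ x : U, d x = d₁ x) ∧ (∀ x : U', d x = d₂ x)

def PkgGlueII : Prop := PkgGlue.{u} → GlueII.{u}

/-- Trichotomy for a nonzero space without fixed vectors. -/
def Tri0 : Prop :=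
  ∀ {F : Type u} [Field F] [Fintype F] {V : Type u} [AddCommGroup V] [Module F V]
    [FiniteDimensional F V] (B : LinearMap.BilinForm F V) (h : V →ₗ[F] V) (r : ℕ),
    Setting B h r → Fpf h → 0 < Module.finrank F V →
    TypeA h ∨ (∃ L L' : Submodule F V, TypeB B h L L') ∨ TypeC B h

def PkgTri0 : Prop := PkgMaschke.{u} → Tri0.{u}

/-! ## Type A: the field model -/

/-- An irreducible `(V, h)` is a finite field `K = F[z]` with `h` = multiplication by `z`. -/
def PkgModel : Prop :=
  ∀ {F : Type u} [Field F] {V : Type u} [AddCommGroup V] [Module F V]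
    [FiniteDimensional F V] (h : V →ₗ[F] V), 0 < Module.finrank F V → TypeA h →
    ∃ (K : Type u) (_ : Field K) (_ : Algebra F K) (z : K) (φ : K ≃ₗ[F] V),
      Algebra.adjoin F {z} = ⊤ ∧ ∀ x, φ (z * x) = h (φ x)

/-- Field model, similarities: `e` with `e τ(e) = μ` has `det_F(e) = μ^(dim/2)`. -/
def PkgAIIModel : Prop :=
  ∀ {F : Type u} [Field F] [Fintype F] {K : Type u} [Field K] [Algebra F K]
    [FiniteDimensional F K] (B : LinearMap.BilinForm F K) (z : K) (r : ℕ),
    (2 : F) ≠ 0 → Algebra.adjoin F {z} = ⊤ → z ^ r = 1 → z ≠ 1 → r.Prime → Odd r →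
    (r : F) ≠ 0 →
    (∀ x y, B x y = B y x) → (∀ x, (∀ y, B x y = 0) → x = 0) →
    (∀ x y, B (z * x) (z * y) = B x y) → ∀ μ : F, μ ≠ 0 →
    ∃ e : K, (∀ x y, B (e * x) (e * y) = μ * B x y) ∧
      LinearMap.det (LinearMap.mulLeft F e) = μ ^ (Module.finrank F K / 2)

/-- Field model, a twisted Frobenius isometry: `s(x) = b (x / b)^q` for suitable `b`. -/
def PkgAIModel : Prop :=
  ∀ {F : Type u} [Field F] [Fintype F] {K : Type u} [Field K] [Algebra F K]
    [FiniteDimensional F K] (B : LinearMap.BilinForm F K) (z : K) (r : ℕ),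
    (2 : F) ≠ 0 → Algebra.adjoin F {z} = ⊤ → z ^ r = 1 → z ≠ 1 → r.Prime → Odd r →
    (r : F) ≠ 0 →
    (∀ x y, B x y = B y x) → (∀ x, (∀ y, B x y = 0) → x = 0) →
    (∀ x y, B (z * x) (z * y) = B x y) →
    ∃ s : K →ₗ[F] K, (∀ x y, B (s x) (s y) = B x y) ∧
      (∃ j : ℕ, ∀ x, s (z ^ j * x) = z * s x) ∧
      Module.finrank F (LinearMap.ker (s - 1)) = 1

/-- Type A, similarities. -/
def AII : Prop :=
  ∀ {F : Type u} [Field F] [Fintype F] {V : Type u} [AddCommGroup V] [Module F V]
    [FiniteDimensional F V] (B : LinearMap.BilinForm F V) (h : V →ₗ[F] V) (r : ℕ),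
    Setting B h r → Fpf h → 0 < Module.finrank F V → TypeA h → ∀ μ : F, μ ≠ 0 →
    ∃ d : V →ₗ[F] V, (∀ x, d (h x) = h (d x)) ∧ (∀ x y, B (d x) (d y) = μ * B x y) ∧
      LinearMap.det d = μ ^ (Module.finrank F V / 2)

def PkgAII : Prop := PkgModel.{u} → PkgAIIModel.{u} → PkgEven.{u} → AII.{u}

/-- Type A, an isometry normalising `⟨h⟩` with a one-dimensional fixed space. -/
def AI : Prop :=
  ∀ {F : Type u} [Field F] [Fintype F] {V : Type u} [AddCommGroup V] [Module F V]
    [FiniteDimensional F V] (B : LinearMap.BilinForm F V) (h : V →ₗ[F] V) (r : ℕ),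
    Setting B h r → Fpf h → 0 < Module.finrank F V → TypeA h →
    ∃ s : V →ₗ[F] V, (∀ x y, B (s x) (s y) = B x y) ∧
      (∃ j : ℕ, ∀ x, s ((h ^ j) x) = h (s x)) ∧
      Module.finrank F (LinearMap.ker (s - 1)) = 1

def PkgAI : Prop := PkgModel.{u} → PkgAIModel.{u} → AI.{u}

/-! ## Type B -/

/-- In type B with `dim L` even there is an `h`-equivariant injection `L → L'`. -/
def BIso : Prop :=
  ∀ {F : Type u} [Field F] [Fintype F] {V : Type u} [AddCommGroup V] [Module F V]
    [FiniteDimensional F V] (B : LinearMap.BilinForm F V) (h : V →ₗ[F] V) (r : ℕ),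
    Setting B h r → Fpf h → ∀ (L L' : Submodule F V) (hB : TypeB B h L L'),
    Even (Module.finrank F L) →
    ∃ φ : L →ₗ[F] L', Function.Injective φ ∧
      ∀ x, φ (h.restrict hB.invL x) = h.restrict hB.invL' (φ x)

def PkgBIso : Prop := PkgModel.{u} → BIso.{u}

/-- In type B an equivariant injection `L → L'` produces a proper nondegenerate invariant
subspace (the graph of `φ` or of `φ ∘ h`). -/
def PkgBAlt : Prop :=
  ∀ {F : Type u} [Field F] [Fintype F] {V : Type u} [AddCommGroup V] [Module F V]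
    [FiniteDimensional F V] (B : LinearMap.BilinForm F V) (h : V →ₗ[F] V) (r : ℕ),
    Setting B h r → Fpf h → ∀ (L L' : Submodule F V) (hB : TypeB B h L L')
    (φ : L →ₗ[F] L'), Function.Injective φ →
    (∀ x, φ (h.restrict hB.invL x) = h.restrict hB.invL' (φ x)) → TypeC B h

/-- In type B: `dim L` is odd, or type C holds. -/
def BOdd : Prop :=
  ∀ {F : Type u} [Field F] [Fintype F] {V : Type u} [AddCommGroup V] [Module F V]
    [FiniteDimensional F V] (B : LinearMap.BilinForm F V) (h : V →ₗ[F] V) (r : ℕ),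
    Setting B h r → Fpf h → ∀ (L L' : Submodule F V), TypeB B h L L' →
    Odd (Module.finrank F L) ∨ TypeC B h

theorem bOdd_of (h1 : BIso.{u}) (h2 : PkgBAlt.{u}) : BOdd.{u} := by
  intro F _ _ V _ _ _ B h r hS hf L L' hB
  by_cases he : Even (Module.finrank F L)
  · obtain ⟨φ, hφ, hφ'⟩ := h1 B h r hS hf L L' hB he
    exact Or.inr (h2 B h r hS hf L L' hB φ hφ hφ')
  · exact Or.inl (Nat.not_even_iff_odd.mp he)

/-- Type B: the similarity `μ` on `L`, `1` on `L'`. -/
def PkgBII : Prop :=
  ∀ {F : Type u} [Field F] [Fintype F] {V : Type u} [AddCommGroup V] [Module F V]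
    [FiniteDimensional F V] (B : LinearMap.BilinForm F V) (h : V →ₗ[F] V) (r : ℕ),
    Setting B h r → ∀ (L L' : Submodule F V), TypeB B h L L' → ∀ μ : F, μ ≠ 0 →
    Module.finrank F V = 2 * Module.finrank F L ∧
    ∃ d : V →ₗ[F] V, (∀ x, d (h x) = h (d x)) ∧ (∀ x y, B (d x) (d y) = μ * B x y) ∧
      LinearMap.det d = μ ^ Module.finrank F L

/-- Output (γ): a product of an even number of reflections, with nonsquare product of norms,
commuting with `h`. -/
def OutGamma {F : Type u} [Field F] {V : Type u} [AddCommGroup V] [Module F V]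
    (B : LinearMap.BilinForm F V) (h : V →ₗ[F] V) : Prop :=
  ∃ l : List V, (∀ u ∈ l, B u u ≠ 0) ∧ Even l.length ∧
    ¬ IsSquare (l.map (fun u => B u u)).prod ∧
    ∀ x, (l.map (refl B)).prod (h x) = h ((l.map (refl B)).prod x)

/-- Output (β): a similarity `d` with nonsquare multiplier and an isometry `s` with
`rank (s - 1)` odd whose commutator `d s d⁻¹ s⁻¹` commutes with `h`. -/
def OutBeta {F : Type u} [Field F] {V : Type u} [AddCommGroup V] [Module F V]
    (B : LinearMap.BilinForm F V) (h : V →ₗ[F] V) : Prop :=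
  ∃ (d s : V ≃ₗ[F] V) (μ : F), ¬ IsSquare μ ∧ (∀ x y, B (d x) (d y) = μ * B x y) ∧
    (∀ x y, B (s x) (s y) = B x y) ∧
    Odd (Module.finrank F (LinearMap.range ((s : V →ₗ[F] V) - 1))) ∧
    ∀ x, d (s (d.symm (s.symm (h x)))) = h (d (s (d.symm (s.symm x))))

/-- Type B with `dim L` odd: the isometry `λ` on `L`, `λ⁻¹` on `L'` (`λ` a nonsquare) is a product
of `2 dim L` reflections with nonsquare product of norms. -/
def PkgBI : Prop :=
  ∀ {F : Type u} [Field F] [Fintype F] {V : Type u} [AddCommGroup V] [Module F V]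
    [FiniteDimensional F V] (B : LinearMap.BilinForm F V) (h : V →ₗ[F] V) (r : ℕ),
    Setting B h r → ∀ (L L' : Submodule F V), TypeB B h L L' → Odd (Module.finrank F L) →
    OutGamma B h

/-! ## The fixed space -/

/-- A nondegenerate space of even dimension has similarities of every multiplier `μ`, with
determinant `μ^(dim/2)`. -/
def PkgV0II : Prop :=
  ∀ {F : Type u} [Field F] [Fintype F] {V : Type u} [AddCommGroup V] [Module F V]
    [FiniteDimensional F V] (B : LinearMap.BilinForm F V), (2 : F) ≠ 0 →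
    (∀ x y, B x y = B y x) → (∀ x, (∀ y, B x y = 0) → x = 0) →
    Even (Module.finrank F V) → ∀ μ : F, μ ≠ 0 →
    ∃ d : V →ₗ[F] V, (∀ x y, B (d x) (d y) = μ * B x y) ∧
      LinearMap.det d = μ ^ (Module.finrank F V / 2)

/-- A nondegenerate space of dimension at least two has two vectors whose norms have a
nonsquare product. -/
def PkgV0I : Prop :=
  ∀ {F : Type u} [Field F] [Fintype F] {V : Type u} [AddCommGroup V] [Module F V]
    [FiniteDimensional F V] (B : LinearMap.BilinForm F V), (2 : F) ≠ 0 →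
    (∀ x y, B x y = B y x) → (∀ x, (∀ y, B x y = 0) → x = 0) →
    2 ≤ Module.finrank F V →
    ∃ u v : V, B u u ≠ 0 ∧ B v v ≠ 0 ∧ ¬ IsSquare (B u u * B v v)

/-! ## The two main claims -/

/-- **Claim II**: similarities of every multiplier commuting with `h`, with `det = μ^(dim/2)`. -/
def ClaimII : Prop :=
  ∀ {F : Type u} [Field F] [Fintype F] {V : Type u} [AddCommGroup V] [Module F V]
    [FiniteDimensional F V] (B : LinearMap.BilinForm F V) (h : V →ₗ[F] V) (r : ℕ),
    Setting B h r → Even (Module.finrank F V) → ∀ μ : F, μ ≠ 0 →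
    ∃ d : V →ₗ[F] V, (∀ x, d (h x) = h (d x)) ∧ (∀ x y, B (d x) (d y) = μ * B x y) ∧
      LinearMap.det d = μ ^ (Module.finrank F V / 2)

/-- **Claim I**: an element of the special orthogonal group commuting with `h` outside the
kernel of the spinor norm, in one of two forms. -/
def ClaimI : Prop :=
  ∀ {F : Type u} [Field F] [Fintype F] {V : Type u} [AddCommGroup V] [Module F V]
    [FiniteDimensional F V] (B : LinearMap.BilinForm F V) (h : V →ₗ[F] V) (r : ℕ),
    Setting B h r → Even (Module.finrank F V) → 0 < Module.finrank F V →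
    OutGamma B h ∨ OutBeta B h

/-! ## Lifting from an invariant nondegenerate subspace, and the assemblies -/

/-- Output (γ) lifts from an invariant nondegenerate subspace. -/
def LiftGamma : Prop :=
  ∀ {F : Type u} [Field F] [Fintype F] {V : Type u} [AddCommGroup V] [Module F V]
    [FiniteDimensional F V] (B : LinearMap.BilinForm F V) (h : V →ₗ[F] V) (r : ℕ),
    Setting B h r → ∀ (U : Submodule F V) (hU : Inv h U), NondegOn B U →
    OutGamma (B.restrict U) (h.restrict hU) → OutGamma B h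

def PkgLiftGamma : Prop := PkgCompl.{u} → LiftGamma.{u}

/-- Output (β) lifts from an invariant nondegenerate subspace (using Claim II on the orthogonal
complement to extend the similarity). -/
def LiftBeta : Prop :=
  ∀ {F : Type u} [Field F] [Fintype F] {V : Type u} [AddCommGroup V] [Module F V]
    [FiniteDimensional F V] (B : LinearMap.BilinForm F V) (h : V →ₗ[F] V) (r : ℕ),
    Setting B h r → Fpf h → ∀ (U : Submodule F V) (hU : Inv h U), NondegOn B U →
    OutBeta (B.restrict U) (h.restrict hU) → OutBeta B h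

def PkgLiftBeta : Prop :=
  ClaimII.{u} → PkgCompl.{u} → PkgRestrict.{u} → PkgGlue.{u} → PkgEven.{u} → LiftBeta.{u}

/-- Assembly of Claim II (strong induction on the dimension). -/
def PkgAsmII : Prop :=
  PkgSplit.{u} → PkgEven.{u} → PkgCompl.{u} → PkgRestrict.{u} → GlueII.{u} → Tri0.{u} →
  PkgBII.{u} → AII.{u} → PkgV0II.{u} → ClaimII.{u}

/-- Assembly of Claim I. -/
def PkgAsmI : Prop :=
  ClaimII.{u} → PkgSplit.{u} → PkgEven.{u} → PkgCompl.{u} → PkgRestrict.{u} → Tri0.{u} →
  BOdd.{u} → PkgBI.{u} → AII.{u} → AI.{u} → PkgV0I.{u} → LiftGamma.{u} → LiftBeta.{u} →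
  ClaimI.{u}

end Cfsg.Agent.Lib.Helper14.Semi
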